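import Groth.Agent.DiagTorLib.SubInt
import Groth.Agent.DivDescLib.Local
import Groth.Agent.CycDivLib.Pull

/-! # Closed subschemes without embedded points with prescribed lengths at finitely many points -/

set_option autoImplicit false
set_option backward.isDefEq.respectTransparency false
set_option backward.isDefEq.respectTransparency.types false

universe u

open CategoryTheory AlgebraicGeometry TopologicalSpace IsLocalRing
open EquidimLib (stalkPt)
open CycDivLib (primeOf stalkPt_primeOf)

noncomputable section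

namespace PureCycLib

variable {X : Scheme.{u}}

theorem germ_res_apply' {U V : X.Opens} (h : V ≤ U) {x : X} (hx : x ∈ V) (r : Γ(X, U)) :
    (X.presheaf.germ V x hx).hom ((X.presheaf.map (homOfLE h).op).hom r) = (X.presheaf.germ U x (h hx)).hom r :=
  TopCat.Presheaf.germ_res_apply X.presheaf (homOfLE h) x hx r

/-- Sections vanishing to order `a x` at the points `x` of `s`. -/
def sects (s : Finset X) (a : X → ℕ) (U : X.Opens) : Ideal Γ(X, U) :=
  ⨅ x ∈ s, ⨅ hx : x ∈ U, (maximalIdeal (X.presheaf.stalk x) ^ a x).comap (X.presheaf.germ U x hx).hom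

theorem mem_sects {s : Finset X} {a : X → ℕ} {U : X.Opens} {r : Γ(X, U)} :
    r ∈ sects s a U ↔ ∀ x ∈ s, ∀ hx : x ∈ U,
      (X.presheaf.germ U x hx).hom r ∈ maximalIdeal (X.presheaf.stalk x) ^ a x := by
  simp only [sects, Submodule.mem_iInf, Ideal.mem_comap]

/-- Multiplying by a high power of a section clears the conditions at the points where it vanishes. -/
theorem mul_pow_mem {s : Finset X} {a : X → ℕ} {U : X.Opens} {t r : Γ(X, U)}
    (h : ∀ x ∈ s, ∀ hx : x ∈ U, IsUnit ((X.presheaf.germ U x hx).hom t) →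
      (X.presheaf.germ U x hx).hom r ∈ maximalIdeal (X.presheaf.stalk x) ^ a x) :
    r * t ^ s.sup a ∈ sects s a U := by
  refine mem_sects.2 fun x hxs hx => ?_
  rw [map_mul, map_pow]
  by_cases hu : IsUnit ((X.presheaf.germ U x hx).hom t)
  · exact Ideal.mul_mem_right _ _ (h x hxs hx hu)
  · exact Ideal.mul_mem_left _ _ (Ideal.pow_le_pow_right (Finset.le_sup hxs)
      (Ideal.pow_mem_pow ((mem_maximalIdeal _).2 hu) _))

/-- The ideal sheaf of sections vanishing to order `a x` at the points `x` of `s`. -/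
def pureIdeal (s : Finset X) (a : X → ℕ) : X.IdealSheafData where
  ideal U := sects s a U.1
  map_ideal_basicOpen U f := by
    refine le_antisymm (Ideal.map_le_iff_le_comap.2 fun r hr => mem_sects.2 fun x hxs hx => ?_) fun z hz => ?_
    · have h := mem_sects.1 hr x hxs (X.basicOpen_le f hx)
      rw [← germ_res_apply' (X.basicOpen_le f) (show x ∈ X.basicOpen f from hx) r] at h
      exact h
    · letI : Algebra Γ(X, U.1) Γ(X, X.basicOpen f) := (X.presheaf.map (homOfLE (X.basicOpen_le f)).op).hom.toAlgebra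
      haveI : IsLocalization.Away f Γ(X, X.basicOpen f) := U.2.isLocalization_of_eq_basicOpen _ _ rfl
      obtain ⟨⟨r, c⟩, hrc⟩ := IsLocalization.surj (Submonoid.powers f) z
      have hr : r * f ^ s.sup a ∈ sects s a U.1 := mul_pow_mem fun x hxs hx hu => by
        have hx' : x ∈ X.basicOpen f := (X.mem_basicOpen f x hx).2 hu
        rw [← germ_res_apply' (X.basicOpen_le f) hx' r]
        change (X.presheaf.germ (X.basicOpen f) x hx').hom (algebraMap _ _ r) ∈ _
        rw [← hrc, map_mul]
        exact Ideal.mul_mem_right _ _ (mem_sects.1 hz x hxs hx')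
      have h2 := Ideal.mem_map_of_mem (X.presheaf.map (homOfLE (X.basicOpen_le f)).op).hom hr
      change algebraMap Γ(X, U.1) Γ(X, X.basicOpen f) (r * f ^ s.sup a) ∈ _ at h2
      rw [map_mul, ← hrc, mul_assoc, ← map_mul] at h2
      refine (Ideal.mul_unit_mem_iff_mem _ ?_).1 h2
      exact IsLocalization.map_units Γ(X, X.basicOpen f) (⟨c.1 * f ^ s.sup a,
        Submonoid.mul_mem _ c.2 ⟨_, rfl⟩⟩ : Submonoid.powers f)

theorem mem_stalkIdeal_pureIdeal (s : Finset X) (a : X → ℕ) (y : X) (z : X.presheaf.stalk y) :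
    z ∈ IntMult.stalkIdeal (pureIdeal s a) y ↔ ∀ x ∈ s, ∀ h : x ⤳ y,
      (X.presheaf.stalkSpecializes h).hom z ∈ maximalIdeal (X.presheaf.stalk x) ^ a x := by
  classical
  obtain ⟨U, hy⟩ := SDivLib.exists_affine y
  rw [SDivLib.stalkIdeal_eq _ U hy]
  constructor
  · intro hz x hxs h
    refine (Ideal.map_le_iff_le_comap.2 (fun r hr => ?_) :
      ((pureIdeal s a).ideal U).map (X.presheaf.germ U.1 y hy).hom ≤
        (maximalIdeal (X.presheaf.stalk x) ^ a x).comap (X.presheaf.stalkSpecializes h).hom) hz
    rw [Ideal.mem_comap, Ideal.mem_comap]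
    rw [show (X.presheaf.stalkSpecializes h).hom ((X.presheaf.germ U.1 y hy).hom r) =
        (X.presheaf.germ U.1 x (h.mem_open U.1.2 hy)).hom r from
      TopCat.Presheaf.germ_stalkSpecializes_apply X.presheaf (U := U.1) hy h r]
    exact mem_sects.1 hr x hxs _
  · intro hz
    letI := X.presheaf.algebra_section_stalk (⟨y, hy⟩ : U.1)
    haveI : IsLocalization.AtPrime (X.presheaf.stalk y) (SDivLib.prm U hy) := U.2.isLocalization_stalk ⟨y, hy⟩
    obtain ⟨⟨r, c⟩, hrc⟩ := IsLocalization.surj (SDivLib.prm U hy).primeCompl z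
    let W : Set X := (⋃ x ∈ s.filter (fun x => ¬ x ⤳ y), closure {x})ᶜ
    have hW : IsOpen W := (Set.Finite.isClosed_biUnion (Finset.finite_toSet _) fun x _ => isClosed_closure).isOpen_compl
    have hyW : y ∈ W := by
      simp only [W, Set.mem_compl_iff, Set.mem_iUnion, not_exists]
      exact fun x hxs hmem => (Finset.mem_filter.1 hxs).2 (specializes_iff_mem_closure.2 hmem)
    obtain ⟨f, hfW, hyf⟩ := U.2.exists_basicOpen_le (V := ⟨W, hW⟩) ⟨y, hyW⟩ hy
    have hr : r * f ^ s.sup a ∈ sects s a U.1 := mul_pow_mem fun x hxs hx hu => by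
      have hxf : x ∈ X.basicOpen f := (X.mem_basicOpen f x hx).2 hu
      have h : x ⤳ y := by
        by_contra h
        exact (hfW hxf) (Set.mem_biUnion (Finset.mem_filter.2 ⟨hxs, h⟩) (subset_closure rfl))
      rw [← show (X.presheaf.stalkSpecializes h).hom (algebraMap Γ(X, U.1) (X.presheaf.stalk y) r) =
        (X.presheaf.germ U.1 x hx).hom r from
        TopCat.Presheaf.germ_stalkSpecializes_apply X.presheaf (U := U.1) hy h r, ← hrc, map_mul]
      exact Ideal.mul_mem_right _ _ (hz x hxs h)
    have h2 := Ideal.mem_map_of_mem (X.presheaf.germ U.1 y hy).hom hr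
    change algebraMap Γ(X, U.1) (X.presheaf.stalk y) (r * f ^ s.sup a) ∈ _ at h2
    rw [map_mul, map_pow, ← hrc, mul_assoc] at h2
    exact (Ideal.mul_unit_mem_iff_mem _
      ((IsLocalization.map_units _ c).mul (((X.mem_basicOpen f y hy).1 hyf).pow _))).1 h2

theorem stalkPt_closedPoint (x : X) : stalkPt x (closedPoint (X.presheaf.stalk x)) = x :=
  Scheme.fromSpecStalk_closedPoint

theorem stalkIdeal_le_maximal (J : X.IdealSheafData) {x : X} (h : x ∈ J.support) :
    IntMult.stalkIdeal J x ≤ maximalIdeal (X.presheaf.stalk x) :=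
  IsLocalRing.le_maximalIdeal ((SDivLib.mem_support_iff_stalk J x).1 h)

/-- An ideal of a discrete valuation ring, from the length of the quotient. -/
theorem eq_pow_of_length {O : Type u} [CommRing O] [IsDomain O] [IsDiscreteValuationRing O] (J : Ideal O) (n : ℕ)
    (hn : Module.length O (O ⧸ J) = n) : J = maximalIdeal O ^ n := by
  obtain ⟨p, hp⟩ := IsDiscreteValuationRing.exists_irreducible O
  have hm := (IsDiscreteValuationRing.irreducible_iff_uniformizer p).1 hp
  have hJ : J ≠ ⊥ := fun h => by
    subst h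
    have hfl : IsFiniteLength O O := by
      rw [← Module.length_ne_top_iff, ← (Submodule.quotEquivOfEqBot (⊥ : Ideal O) rfl).length_eq, hn]
      exact ENat.natCast_ne_top n
    have hart := (isFiniteLength_iff_isNoetherian_isArtinian.1 hfl).2
    haveI : IsArtinianRing O := hart
    exact IsDiscreteValuationRing.not_isField O (IsArtinianRing.isField_of_isDomain O)
  obtain ⟨k, rfl⟩ := IsDiscreteValuationRing.ideal_eq_span_pow_irreducible hJ hp
  have hk : Ring.ord O (p ^ k) = k := by
    rw [Ring.ord_pow (mem_nonZeroDivisors_of_ne_zero hp.ne_zero), Ring.ord_of_irreducible hp]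
    simp
  rw [Ring.ord] at hk
  have h' : n = k := ENat.coe_inj.1 (hn.symm.trans hk)
  rw [h', hm, Ideal.span_singleton_pow]

theorem length_pow {O : Type u} [CommRing O] [IsDomain O] [IsDiscreteValuationRing O] (n : ℕ) :
    Module.length O (O ⧸ maximalIdeal O ^ n) = n := by
  obtain ⟨p, hp⟩ := IsDiscreteValuationRing.exists_irreducible O
  rw [(IsDiscreteValuationRing.irreducible_iff_uniformizer p).1 hp, Ideal.span_singleton_pow]
  show Ring.ord O (p ^ n) = n
  rw [Ring.ord_pow (mem_nonZeroDivisors_of_ne_zero hp.ne_zero), Ring.ord_of_irreducible hp]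
  simp

/-- Two points whose local rings are discrete valuation rings are not comparable. -/
theorem eq_of_specializes_dvr {x x' : X} (h : x ⤳ x') [IsDomain (X.presheaf.stalk x)]
    [IsDiscreteValuationRing (X.presheaf.stalk x)] [IsDomain (X.presheaf.stalk x')]
    [IsDiscreteValuationRing (X.presheaf.stalk x')] : x = x' := by
  by_contra hne
  letI := (X.presheaf.stalkSpecializes h).hom.toAlgebra
  haveI := CycDivLib.isLocalization_stalkSpecializes h
  have hbot : (primeOf h).asIdeal = ⊥ := by
    by_contra hb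
    refine hne ?_
    haveI hp : (primeOf h).asIdeal.IsPrime := (primeOf h).2
    have hc : primeOf h = closedPoint _ := PrimeSpectrum.ext
      (IsLocalRing.eq_maximalIdeal (hp.isMaximal_of_ne_bot hb))
    rw [← stalkPt_primeOf h, hc, stalkPt_closedPoint]
  refine IsDiscreteValuationRing.not_a_field (X.presheaf.stalk x) ?_
  rw [← IsLocalization.AtPrime.map_eq_maximalIdeal (primeOf h).asIdeal, hbot, Ideal.map_bot]

variable (J : X.IdealSheafData)

theorem length_stalk_subscheme (z : J.subscheme) :
    Module.length (J.subscheme.presheaf.stalk z) (J.subscheme.presheaf.stalk z) =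
      Module.length (X.presheaf.stalk (J.subschemeι z))
        (↑(X.presheaf.stalk (J.subschemeι z)) ⧸ IntMult.stalkIdeal J (J.subschemeι z)) := by
  rw [DiagTorLib.length_stalk_closed J.subschemeι z, J.ker_subschemeι]

theorem ker_stalkMap (z : J.subscheme) :
    RingHom.ker (J.subschemeι.stalkMap z).hom = IntMult.stalkIdeal J (J.subschemeι z) := by
  rw [← DiagTorLib.stalkIdeal_ker J.subschemeι z, J.ker_subschemeι]

theorem exists_point {x : X} (h : x ∈ J.support) : ∃ z : J.subscheme, J.subschemeι z = x := by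
  have h' : x ∈ Set.range J.subschemeι := by rw [J.range_subschemeι]; exact h
  exact h'

theorem mem_support_point (z : J.subscheme) : J.subschemeι z ∈ J.support := by
  have h' : J.subschemeι z ∈ Set.range J.subschemeι := ⟨z, rfl⟩
  rwa [J.range_subschemeι] at h'

variable [IsLocallyNoetherian X]

theorem isNoetherianRing_stalk_subscheme (z : J.subscheme) : IsNoetherianRing (J.subscheme.presheaf.stalk z) :=
  isNoetherianRing_of_surjective _ _ _ (J.subschemeι.stalkMap_surjective z)

/-- The condition for a point to be associated. -/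
theorem isAssociatedPrime_iff_exists (z : J.subscheme) :
    IsAssociatedPrime (maximalIdeal (J.subscheme.presheaf.stalk z)) (J.subscheme.presheaf.stalk z) ↔
      ∃ t, t ∉ IntMult.stalkIdeal J (J.subschemeι z) ∧
        ∀ m ∈ maximalIdeal (X.presheaf.stalk (J.subschemeι z)), m * t ∈ IntMult.stalkIdeal J (J.subschemeι z) := by
  haveI := isNoetherianRing_stalk_subscheme J z
  rw [isAssociatedPrime_iff]
  have hs := J.subschemeι.stalkMap_surjective z
  constructor
  · rintro ⟨-, t', ht'⟩
    obtain ⟨t, rfl⟩ := hs t'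
    refine ⟨t, fun htJ => ?_, fun m hm => ?_⟩
    · have h1 : (1 : J.subscheme.presheaf.stalk z) ∈ maximalIdeal (J.subscheme.presheaf.stalk z) := by
        rw [ht', Submodule.mem_colon_singleton, Submodule.mem_bot, one_smul]
        rw [← ker_stalkMap] at htJ
        exact htJ
      exact (IsLocalRing.maximalIdeal.isMaximal _).ne_top ((Ideal.eq_top_iff_one _).2 h1)
    · have h1 : (J.subschemeι.stalkMap z).hom m ∈ maximalIdeal (J.subscheme.presheaf.stalk z) := by
        rw [mem_maximalIdeal, mem_nonunits_iff]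
        exact fun hu => (mem_maximalIdeal m).1 hm (isUnit_of_map_unit (J.subschemeι.stalkMap z).hom m hu)
      rw [ht', Submodule.mem_colon_singleton, Submodule.mem_bot, smul_eq_mul, ← map_mul] at h1
      rw [← ker_stalkMap]
      exact h1
  · rintro ⟨t, ht, hm⟩
    refine ⟨(IsLocalRing.maximalIdeal.isMaximal _).isPrime, (J.subschemeι.stalkMap z).hom t, ?_⟩
    refine ((IsLocalRing.maximalIdeal.isMaximal _).eq_of_le ?_ fun m' hm' => ?_)
    · intro h
      have h1 : (1 : J.subscheme.presheaf.stalk z) ∈
          (⊥ : Submodule _ (J.subscheme.presheaf.stalk z)).colon {(J.subschemeι.stalkMap z).hom t} :=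
        h ▸ Submodule.mem_top
      rw [Submodule.mem_colon_singleton, Submodule.mem_bot, one_smul] at h1
      exact ht (ker_stalkMap J z ▸ h1)
    · obtain ⟨m, rfl⟩ := hs m'
      rw [Submodule.mem_colon_singleton, Submodule.mem_bot, smul_eq_mul, ← map_mul, ← RingHom.mem_ker, ker_stalkMap]
      refine hm m ((mem_maximalIdeal _).2 fun hu => (mem_maximalIdeal _).1 hm' (hu.map _))

/-- An element outside the ideal stays outside at an associated generization. -/
theorem exists_associated_not_mem {y : X} {f : X.presheaf.stalk y} (hf : f ∉ IntMult.stalkIdeal J y) :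
    ∃ (z : J.subscheme) (h : J.subschemeι z ⤳ y),
      IsAssociatedPrime (maximalIdeal (J.subscheme.presheaf.stalk z)) (J.subscheme.presheaf.stalk z) ∧
        (X.presheaf.stalkSpecializes h).hom f ∉ IntMult.stalkIdeal J (J.subschemeι z) := by
  let M := ↑(X.presheaf.stalk y) ⧸ IntMult.stalkIdeal J y
  obtain ⟨P, hP, hle⟩ := exists_le_isAssociatedPrime_of_isNoetherianRing (X.presheaf.stalk y)
    (Submodule.Quotient.mk f : M) (fun h => hf ((Submodule.Quotient.mk_eq_zero _).1 h))
  obtain ⟨hPp, t', ht'⟩ := isAssociatedPrime_iff.1 hP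
  obtain ⟨t, rfl⟩ := Submodule.Quotient.mk_surjective _ t'
  have hPt : ∀ c, c ∈ P ↔ c * t ∈ IntMult.stalkIdeal J y := fun c => by
    rw [ht', Submodule.mem_colon_singleton, Submodule.mem_bot, ← Submodule.Quotient.mk_smul,
      Submodule.Quotient.mk_eq_zero, smul_eq_mul]
  have hfP : ∀ c, c * f ∈ IntMult.stalkIdeal J y → c ∈ P := fun c hc => hle (by
    rw [Submodule.mem_colon_singleton, Submodule.mem_bot, ← Submodule.Quotient.mk_smul,
      Submodule.Quotient.mk_eq_zero, smul_eq_mul]
    exact hc)
  have hJP : IntMult.stalkIdeal J y ≤ P := fun c hc => (hPt c).2 (Ideal.mul_mem_right _ _ hc)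
  let p : PrimeSpectrum (X.presheaf.stalk y) := ⟨P, hPp⟩
  obtain ⟨z, hz⟩ := exists_point J ((IntMultRegLib.stalkPt_mem_support_iff J y p).2 hJP)
  have h : J.subschemeι z ⤳ y := hz ▸ EquidimLib.stalkPt_specializes y p
  have hpe : primeOf h = p := EquidimLib.stalkPt_injective y ((stalkPt_primeOf h).trans hz)
  letI := (X.presheaf.stalkSpecializes h).hom.toAlgebra
  haveI hloc := CycDivLib.isLocalization_stalkSpecializes h
  have hst : IntMult.stalkIdeal J (J.subschemeι z) =
      (IntMult.stalkIdeal J y).map (algebraMap (X.presheaf.stalk y) (X.presheaf.stalk (J.subschemeι z))) :=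
    DiagTorLib.stalkIdeal_specializes J h
  have hout : ∀ g, (∀ c, c * g ∈ IntMult.stalkIdeal J y → c ∈ P) →
      algebraMap (X.presheaf.stalk y) (X.presheaf.stalk (J.subschemeι z)) g ∉
        IntMult.stalkIdeal J (J.subschemeι z) := by
    intro g hg hmem
    rw [hst, IsLocalization.algebraMap_mem_map_algebraMap_iff (primeOf h).asIdeal.primeCompl] at hmem
    obtain ⟨c, hc, hcg⟩ := hmem
    exact hc (by rw [hpe]; exact hg c hcg)
  refine ⟨z, h, (isAssociatedPrime_iff_exists J z).2 ⟨_, hout t fun c => (hPt c).2, fun m hm => ?_⟩, hout f hfP⟩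
  rw [← IsLocalization.AtPrime.map_eq_maximalIdeal (primeOf h).asIdeal] at hm
  refine Submodule.span_induction (p := fun m _ => m * _ ∈ IntMult.stalkIdeal J (J.subschemeι z)) ?_ ?_ ?_ ?_ hm
  · rintro _ ⟨c, hc, rfl⟩
    rw [← map_mul, hst]
    refine Ideal.mem_map_of_mem _ ((hPt c).1 ?_)
    have hc' : c ∈ (primeOf h).asIdeal := hc
    rwa [hpe] at hc'
  · rw [zero_mul]; exact zero_mem _
  · intro a b _ _ ha hb; rw [add_mul]; exact add_mem ha hb
  · intro r a _ ha; rw [smul_eq_mul, mul_assoc]; exact Ideal.mul_mem_left _ _ ha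

end PureCycLib

end
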